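import Groth.Prelude.Def_CohCx
import Mathlib.Algebra.Homology.DerivedCategory.SingleTriangle
import Mathlib.Algebra.Homology.ShortComplex.Ab
import Mathlib.CategoryTheory.Sites.MayerVietorisSquare

/-!
The Mayer-Vietoris sequence for hypercohomology.
-/

set_option autoImplicit false
set_option linter.style.haveILetI false
set_option backward.isDefEq.respectTransparency false

universe u

open CategoryTheory Category Limits Opposite Pretriangulated

namespace Groth.Agent.W7MV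

variable {C : Type u} [SmallCategory C] {J : GrothendieckTopology C}
  [HasDerivedCategory.{u} (Sheaf J AddCommGrpCat.{u})] [HasWeakSheafify J (Type u)]
  (S : J.MayerVietorisSquare) (K : DerivedCategory (Sheaf J AddCommGrpCat.{u}))

/-- the triangle of a Mayer-Vietoris square -/
noncomputable abbrev tri : Triangle (DerivedCategory (Sheaf J AddCommGrpCat.{u})) :=
  S.shortComplex_shortExact.singleTriangle

lemma tri_distinguished : tri S ∈ distTriang (DerivedCategory (Sheaf J AddCommGrpCat.{u})) :=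
  S.shortComplex_shortExact.singleTriangle_distinguished

/-- degree zero embedding -/
noncomputable abbrev F : Sheaf J AddCommGrpCat.{u} ⥤ DerivedCategory (Sheaf J AddCommGrpCat.{u}) :=
  DerivedCategory.singleFunctor (Sheaf J AddCommGrpCat.{u}) 0

/-- combine two classes -/
noncomputable def both {n : ℤ} (a : CohCx.HDU K n S.X₂) (b : CohCx.HDU K n S.X₃) :
    (tri S).obj₂ ⟶ (shiftFunctor (DerivedCategory (Sheaf J AddCommGrpCat.{u})) n).obj K :=
  F.map biprod.fst ≫ a + F.map biprod.snd ≫ b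

lemma inl_both {n : ℤ} (a : CohCx.HDU K n S.X₂) (b : CohCx.HDU K n S.X₃) :
    F.map (biprod.inl : CohCx.freeSheaf J S.X₂ ⟶ CohCx.freeSheaf J S.X₂ ⊞ CohCx.freeSheaf J S.X₃) ≫
      both S K a b = a := by
  simp only [both, Preadditive.comp_add]
  erw [← Functor.map_comp_assoc, ← Functor.map_comp_assoc, biprod.inl_fst, biprod.inl_snd]
  simp

lemma inr_both {n : ℤ} (a : CohCx.HDU K n S.X₂) (b : CohCx.HDU K n S.X₃) :
    F.map (biprod.inr : CohCx.freeSheaf J S.X₃ ⟶ CohCx.freeSheaf J S.X₂ ⊞ CohCx.freeSheaf J S.X₃) ≫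
      both S K a b = b := by
  simp only [both, Preadditive.comp_add]
  erw [← Functor.map_comp_assoc, ← Functor.map_comp_assoc, biprod.inr_fst, biprod.inr_snd]
  simp

lemma both_inl_inr {n : ℤ}
    (h : (tri S).obj₂ ⟶ (shiftFunctor (DerivedCategory (Sheaf J AddCommGrpCat.{u})) n).obj K) :
    both S K (n := n) (F.map biprod.inl ≫ h) (F.map biprod.inr ≫ h) = h := by
  simp only [both]
  erw [← Functor.map_comp_assoc, ← Functor.map_comp_assoc, ← Preadditive.add_comp, ← Functor.map_add,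
    biprod.total, CategoryTheory.Functor.map_id, id_comp]

lemma mor₁_both {n : ℤ} (a : CohCx.HDU K n S.X₂) (b : CohCx.HDU K n S.X₃) :
    (tri S).mor₁ ≫ both S K a b = CohCx.HDUres K n S.f₁₂ a - CohCx.HDUres K n S.f₁₃ b := by
  change F.map S.shortComplex.f ≫ _ = F.map (CohCx.freeSheafMap J S.f₁₂) ≫ a - F.map (CohCx.freeSheafMap J S.f₁₃) ≫ b
  simp only [both, Preadditive.comp_add]
  erw [← Functor.map_comp_assoc, ← Functor.map_comp_assoc, biprod.lift_fst, biprod.lift_snd,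
    Functor.map_neg, Preadditive.neg_comp]
  rw [← sub_eq_add_neg]

lemma inl_mor₂ : F.map (biprod.inl : CohCx.freeSheaf J S.X₂ ⟶ CohCx.freeSheaf J S.X₂ ⊞ CohCx.freeSheaf J S.X₃) ≫
    (tri S).mor₂ = F.map (CohCx.freeSheafMap J S.f₂₄) := by
  change F.map _ ≫ F.map S.shortComplex.g = _
  erw [← Functor.map_comp, biprod.inl_desc]

lemma inr_mor₂ : F.map (biprod.inr : CohCx.freeSheaf J S.X₃ ⟶ CohCx.freeSheaf J S.X₂ ⊞ CohCx.freeSheaf J S.X₃) ≫
    (tri S).mor₂ = F.map (CohCx.freeSheafMap J S.f₃₄) := by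
  change F.map _ ≫ F.map S.shortComplex.g = _
  erw [← Functor.map_comp, biprod.inr_desc]

/-- the connecting homomorphism -/
noncomputable def delta (n : ℤ) : CohCx.HDU K n S.X₁ →+ CohCx.HDU K (n + 1) S.X₄ :=
  AddMonoidHom.mk' (fun φ => (tri S).mor₃ ≫ φ⟦(1 : ℤ)⟧' ≫
    (shiftFunctorAdd' (DerivedCategory (Sheaf J AddCommGrpCat.{u})) n 1 (n + 1) rfl).inv.app K)
    fun φ ψ => by erw [Functor.map_add, Preadditive.add_comp, Preadditive.comp_add]

lemma delta_eq_zero_iff {n : ℤ} (φ : CohCx.HDU K n S.X₁) :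
    delta S K n φ = 0 ↔ (tri S).mor₃ ≫ φ⟦(1 : ℤ)⟧' = 0 := by
  constructor
  · intro h
    rw [← cancel_mono ((shiftFunctorAdd' (DerivedCategory (Sheaf J AddCommGrpCat.{u})) n 1 (n + 1) rfl).inv.app K),
      assoc, zero_comp]
    exact h
  · intro h
    refine (assoc _ _ _).symm.trans ?_
    exact (congrArg (· ≫ _) h).trans zero_comp

theorem exact₁ (n : ℤ) : Function.Exact
    ((CohCx.HDUres K n S.f₂₄).prod (CohCx.HDUres K n S.f₃₄))
    ((CohCx.HDUres K n S.f₁₂).coprod (-(CohCx.HDUres K n S.f₁₃))) := by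
  rintro ⟨a, b⟩
  rw [AddMonoidHom.coprod_apply, AddMonoidHom.neg_apply, ← sub_eq_add_neg, ← mor₁_both]
  constructor
  · intro h
    obtain ⟨c, hc⟩ := Triangle.yoneda_exact₂ _ (tri_distinguished S) (both S K a b) h
    refine ⟨c, Prod.ext ?_ ?_⟩
    · refine Eq.trans ?_ (inl_both S K a b)
      rw [hc]
      exact ((assoc _ _ _).symm.trans (congrArg (· ≫ c) (inl_mor₂ S))).symm
    · refine Eq.trans ?_ (inr_both S K a b)
      rw [hc]
      exact ((assoc _ _ _).symm.trans (congrArg (· ≫ c) (inr_mor₂ S))).symm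
  · rintro ⟨c, hc⟩
    have ha : a = F.map (CohCx.freeSheafMap J S.f₂₄) ≫ c := (congrArg Prod.fst hc).symm
    have hb : b = F.map (CohCx.freeSheafMap J S.f₃₄) ≫ c := (congrArg Prod.snd hc).symm
    have e : both S K a b = (tri S).mor₂ ≫ c := by
      rw [← both_inl_inr S K ((tri S).mor₂ ≫ c), ha, hb]
      congr 1
      · exact ((assoc _ _ _).symm.trans (congrArg (· ≫ c) (inl_mor₂ S))).symm
      · exact ((assoc _ _ _).symm.trans (congrArg (· ≫ c) (inr_mor₂ S))).symm
    rw [e, ← assoc, comp_distTriang_mor_zero₁₂ _ (tri_distinguished S), zero_comp]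

theorem exact₂ (n : ℤ) : Function.Exact
    ((CohCx.HDUres K n S.f₁₂).coprod (-(CohCx.HDUres K n S.f₁₃))) (delta S K n) := by
  intro φ
  rw [delta_eq_zero_iff]
  constructor
  · intro h
    obtain ⟨g, hg⟩ := Triangle.yoneda_exact₂ _
      (rot_of_distTriang _ (rot_of_distTriang _ (tri_distinguished S))) (φ⟦(1 : ℤ)⟧') h
    obtain ⟨h', rfl⟩ := (shiftFunctor (DerivedCategory (Sheaf J AddCommGrpCat.{u})) (1 : ℤ)).map_surjective g
    refine ⟨(F.map biprod.inl ≫ (-h'), F.map biprod.inr ≫ (-h')), ?_⟩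
    rw [AddMonoidHom.coprod_apply, AddMonoidHom.neg_apply, ← sub_eq_add_neg, ← mor₁_both, both_inl_inr]
    apply (shiftFunctor (DerivedCategory (Sheaf J AddCommGrpCat.{u})) (1 : ℤ)).map_injective
    refine Eq.trans ?_ hg.symm
    change _ = (-(tri S).mor₁⟦(1 : ℤ)⟧') ≫ h'⟦(1 : ℤ)⟧'
    rw [Functor.map_comp, Functor.map_neg, Preadditive.comp_neg, Preadditive.neg_comp]
  · rintro ⟨⟨a, b⟩, rfl⟩
    rw [AddMonoidHom.coprod_apply, AddMonoidHom.neg_apply, ← sub_eq_add_neg, ← mor₁_both,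
      Functor.map_comp, ← assoc, comp_distTriang_mor_zero₃₁ _ (tri_distinguished S), zero_comp]

theorem exact₃ (n : ℤ) : Function.Exact (delta S K n)
    ((CohCx.HDUres K (n + 1) S.f₂₄).prod (CohCx.HDUres K (n + 1) S.f₃₄)) := by
  intro c
  have key : (CohCx.HDUres K (n + 1) S.f₂₄).prod (CohCx.HDUres K (n + 1) S.f₃₄) c = 0 ↔
      (tri S).mor₂ ≫ c = 0 := by
    constructor
    · intro h
      rw [← both_inl_inr S K ((tri S).mor₂ ≫ c)]
      have h2 : F.map (CohCx.freeSheafMap J S.f₂₄) ≫ c = 0 := congrArg Prod.fst h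
      have h3 : F.map (CohCx.freeSheafMap J S.f₃₄) ≫ c = 0 := congrArg Prod.snd h
      unfold both
      erw [reassoc_of% (inl_mor₂ S), reassoc_of% (inr_mor₂ S), h2, h3]
      simp
    · intro h
      refine Prod.ext ?_ ?_
      · change F.map (CohCx.freeSheafMap J S.f₂₄) ≫ c = 0
        rw [← inl_mor₂, assoc, h, comp_zero]
      · change F.map (CohCx.freeSheafMap J S.f₃₄) ≫ c = 0
        rw [← inr_mor₂, assoc, h, comp_zero]
  rw [key]
  constructor
  · intro h
    obtain ⟨g, hg⟩ := Triangle.yoneda_exact₃ _ (tri_distinguished S) c h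
    let e := (shiftFunctorAdd' (DerivedCategory (Sheaf J AddCommGrpCat.{u})) n 1 (n + 1) rfl)
    obtain ⟨φ, hφ⟩ := (shiftFunctor (DerivedCategory (Sheaf J AddCommGrpCat.{u})) (1 : ℤ)).map_surjective
      (g ≫ e.hom.app K)
    refine ⟨φ, ?_⟩
    change (tri S).mor₃ ≫ φ⟦(1 : ℤ)⟧' ≫ e.inv.app K = c
    rw [hφ, assoc, e.hom_inv_id_app]
    exact (congrArg ((tri S).mor₃ ≫ ·) (comp_id g)).trans hg.symm
  · rintro ⟨φ, rfl⟩
    refine (assoc _ _ _).symm.trans ?_
    exact (congrArg (· ≫ _) (comp_distTriang_mor_zero₂₃ _ (tri_distinguished S))).trans zero_comp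

lemma exact_mk₂ {A B D : Type u} [AddCommGroup A] [AddCommGroup B] [AddCommGroup D] (f : A →+ B) (g : B →+ D)
    (h : Function.Exact f g) :
    (ComposableArrows.mk₂ (AddCommGrpCat.ofHom f) (AddCommGrpCat.ofHom g)).Exact := by
  have w : AddCommGrpCat.ofHom f ≫ AddCommGrpCat.ofHom g = 0 :=
    AddCommGrpCat.hom_ext (AddMonoidHom.ext fun x => h.apply_apply_eq_zero x)
  exact ((ShortComplex.ab_exact_iff (ShortComplex.mk _ _ w)).2 fun x hx => (h x).1 hx).exact_toComposableArrows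

end Groth.Agent.W7MV
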